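import Groth.Agent.SGA1Quot.Affine
import Groth.Agent.Et18.AlgClosedGeneric
import Groth.Agent.AbCubeLib.FiniteDegree
import Mathlib.FieldTheory.Galois.IsGaloisGroup

/-!
# Finite group quotients of normal integral schemes: normality and degree
-/

set_option autoImplicit false
set_option linter.style.haveILetI false
set_option linter.unusedSectionVars false
set_option backward.isDefEq.respectTransparency.types false
set_option maxHeartbeats 1000000

universe u

open CategoryTheory CategoryTheory.Limits AlgebraicGeometry Opposite TopologicalSpace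
open Groth.Agent.Coherent

namespace Groth.Agent.CurveQuot24

theorem rankAtStalk_eq_finrank (R M : Type u) [CommRing R] [IsDomain R] [AddCommGroup M] [Module R M]
    (P : PrimeSpectrum R) : Module.rankAtStalk (R := R) M P = Module.finrank R M := by
  rw [Module.rankAtStalk]
  refine (IsLocalization.finrank_eq (R := R) (S := Localization.AtPrime P.asIdeal) (p := P.asIdeal.primeCompl)
    (fun a ha => mem_nonZeroDivisors_of_ne_zero fun h => ha (h ▸ zero_mem _))).trans ?_
  exact _root_.IsLocalizedModule.finrank_eq P.asIdeal.primeCompl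
    (LocalizedModule.mkLinearMap P.asIdeal.primeCompl M)
    (fun a ha => mem_nonZeroDivisors_of_ne_zero fun h => ha (h ▸ zero_mem _))

/-- Invariants of a normal domain are normal. -/
theorem isIntegrallyClosed_invariant (B A G : Type u) [CommRing B] [CommRing A] [IsDomain B] [IsDomain A]
    [Algebra B A] [FaithfulSMul B A] [Group G] [MulSemiringAction G A] [SMulCommClass G B A]
    [Algebra.IsInvariant B A G] [IsIntegrallyClosed A] : IsIntegrallyClosed B := by
  refine (isIntegrallyClosed_iff (FractionRing B)).2 fun {z} hz => ?_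
  haveI : FaithfulSMul B (FractionRing A) := (faithfulSMul_iff_algebraMap_injective _ _).2
    ((IsFractionRing.injective A (FractionRing A)).comp (FaithfulSMul.algebraMap_injective B A))
  let ψ : FractionRing B →ₐ[B] FractionRing A :=
    IsFractionRing.liftAlgHom (g := Algebra.ofId B (FractionRing A)) (FaithfulSMul.algebraMap_injective B _)
  obtain ⟨a, ha⟩ := IsIntegrallyClosed.isIntegral_iff.1 ((hz.map ψ).tower_top (A := A))
  obtain ⟨b, c, hc, hz'⟩ := IsFractionRing.div_surjective (A := B) z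
  have hc0 : c ≠ 0 := nonZeroDivisors.ne_zero hc
  have hcA : algebraMap B A c ≠ 0 :=
    (map_ne_zero_iff _ (FaithfulSMul.algebraMap_injective B A)).2 hc0
  have hcK : algebraMap B (FractionRing B) c ≠ 0 :=
    (map_ne_zero_iff _ (IsFractionRing.injective B _)).2 hc0
  have hmul : z * algebraMap B (FractionRing B) c = algebraMap B (FractionRing B) b := by
    rw [← hz', div_mul_cancel₀ _ hcK]
  have hab : a * algebraMap B A c = algebraMap B A b := by
    apply IsFractionRing.injective A (FractionRing A)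
    have h := congrArg ψ hmul
    rw [map_mul, AlgHom.commutes, AlgHom.commutes, ← ha, IsScalarTower.algebraMap_apply B A (FractionRing A),
      IsScalarTower.algebraMap_apply B A (FractionRing A) b] at h
    rwa [map_mul]
  obtain ⟨a', rfl⟩ := Algebra.IsInvariant.isInvariant (A := B) (G := G) a fun g => by
    apply mul_right_cancel₀ hcA
    calc g • a * algebraMap B A c = g • (a * algebraMap B A c) := by rw [smul_mul', smul_algebraMap]
      _ = a * algebraMap B A c := by rw [hab, smul_algebraMap]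
  refine ⟨a', ?_⟩
  rw [← map_mul] at hab
  rw [← hz', eq_div_iff hcK, ← map_mul, FaithfulSMul.algebraMap_injective B A hab]

variable {X Y : Scheme.{u}} {G : Type u} [Group G] [Finite G] {ρ : G →* Aut X} {p : X ⟶ Y}

/-- A quotient of an integral scheme is integral. -/
theorem isIntegral (hp : SGA1.IsQuot ρ p) [IsIntegral X] : IsIntegral Y := by
  haveI := SGA1Quot.surjective hp
  haveI : IrreducibleSpace Y := by
    rw [irreducibleSpace_def, Set.top_eq_univ, ← Set.image_univ_of_surjective p.surjective]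
    exact (IrreducibleSpace.isIrreducible_univ X).image _ p.continuous.continuousOn
  haveI : IsReduced Y := by
    haveI : ∀ U : Y.Opens, _root_.IsReduced Γ(Y, U) := fun U =>
      isReduced_of_injective (p.app U).hom (hp.injective U)
    exact ⟨inferInstance⟩
  exact isIntegral_of_irreducibleSpace_of_isReduced Y

/-- A quotient of a normal integral scheme is normal. -/
theorem isNormal (hp : SGA1.IsQuot ρ p) [IsIntegral X] (hX : Pi1.IsNormalScheme X) : Pi1.IsNormalScheme Y := by
  haveI := isIntegral hp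
  haveI := hp.affine
  haveI := SGA1Quot.surjective hp
  intro y
  refine ⟨inferInstance, ?_⟩
  obtain ⟨V, hV, hy, -⟩ := exists_isAffineOpen_mem_and_subset (x := y) (U := (⊤ : Y.Opens)) trivial
  obtain ⟨x, hx⟩ := p.surjective y
  haveI : Nonempty (p ⁻¹ᵁ V).toScheme := ⟨⟨x, show p x ∈ V from hx ▸ hy⟩⟩
  haveI : Nonempty V.toScheme := ⟨⟨y, hy⟩⟩
  letI := SGA1Quot.action hp V
  letI := (p.app V).hom.toAlgebra
  haveI := SGA1Quot.action_invariant hp V
  haveI := SGA1Quot.action_comm hp V
  haveI : FaithfulSMul Γ(Y, V) Γ(X, p ⁻¹ᵁ V) :=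
    (faithfulSMul_iff_algebraMap_injective _ _).2 (hp.injective V)
  haveI := Et18.AlgClosedGeneric.isIntegrallyClosed_sections X (fun x => (hX x).2) (hV.preimage p)
  haveI := isIntegrallyClosed_invariant Γ(Y, V) Γ(X, p ⁻¹ᵁ V) G
  letI : Algebra Γ(Y, V) (Y.presheaf.stalk y) := TopCat.Presheaf.algebra_section_stalk Y.presheaf ⟨y, hy⟩
  haveI := hV.isLocalization_stalk ⟨y, hy⟩
  exact isIntegrallyClosed_of_isLocalization (Y.presheaf.stalk y)
    (hV.primeIdealOf ⟨y, hy⟩).asIdeal.primeCompl
    (fun a ha => mem_nonZeroDivisors_of_ne_zero fun h => ha (h ▸ zero_mem _))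

/-- A finite flat quotient by a faithful action has degree the order of the group. -/
theorem finrank_eq_card {S : Scheme.{u}} (hp : SGA1.IsQuot ρ p) [IsIntegral X] [IsLocallyNoetherian Y] (f : X ⟶ S)
    [IsSeparated f] (hρ : Function.Injective ρ) (hρf : ∀ g, (ρ g).hom ≫ f = f) [IsFinite p] [Flat p] (y : Y) :
    p.finrank y = Nat.card G := by
  haveI := isIntegral hp
  haveI := hp.affine
  haveI := SGA1Quot.surjective hp
  haveI : IsLocallyNoetherian X := LocallyOfFiniteType.isLocallyNoetherian p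
  haveI : LocallyOfFinitePresentation p := CohBC.locallyOfFinitePresentation_of_isLocallyNoetherian p
  obtain ⟨V, hV, hy, -⟩ := exists_isAffineOpen_mem_and_subset (x := genericPoint Y) (U := (⊤ : Y.Opens)) trivial
  rw [p.isLocallyConstant_finrank.apply_eq_of_preconnectedSpace y (genericPoint Y)]
  obtain ⟨x, hx⟩ := p.surjective (genericPoint Y)
  have hW : IsAffineOpen (p ⁻¹ᵁ V) := hV.preimage p
  have hxW : x ∈ p ⁻¹ᵁ V := show p x ∈ V from hx ▸ hy
  haveI : Nonempty (p ⁻¹ᵁ V).toScheme := ⟨⟨x, hxW⟩⟩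
  haveI : Nonempty V.toScheme := ⟨⟨_, hy⟩⟩
  letI := SGA1Quot.action hp V
  letI := (p.app V).hom.toAlgebra
  haveI := SGA1Quot.action_invariant hp V
  haveI := SGA1Quot.action_comm hp V
  haveI : FaithfulSMul Γ(Y, V) Γ(X, p ⁻¹ᵁ V) :=
    (faithfulSMul_iff_algebraMap_injective _ _).2 (hp.injective V)
  have h0 : ∀ g : G, (∀ a : Γ(X, p ⁻¹ᵁ V), g • a = a) → g = 1 := fun g hg => by
    have e := SGA1.preimage_le_of_inv ρ p hp.inv g⁻¹ V
    have hid : (ρ g⁻¹).hom.appLE (p ⁻¹ᵁ V) (p ⁻¹ᵁ V) e = 𝟙 _ := CommRingCat.hom_ext (RingHom.ext fun a => hg a)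
    have hfac : hW.fromSpec ≫ (ρ g⁻¹).hom = hW.fromSpec ≫ 𝟙 X := by
      rw [← IsAffineOpen.SpecMap_appLE_fromSpec (ρ g⁻¹).hom hW hW e, hid, Spec.map_id, Category.id_comp,
        Category.comp_id]
    haveI : IsDominant hW.fromSpec := by
      refine ⟨(hW.fromSpec.isOpenEmbedding.isOpen_range).dense ⟨x, ?_⟩⟩
      rw [hW.range_fromSpec]
      exact hxW
    have h1 : (ρ g⁻¹).hom = 𝟙 X :=
      ext_of_isDominant_of_isSeparated f (by rw [hρf, Category.id_comp]) hW.fromSpec hfac
    have h2 : ρ g⁻¹ = ρ 1 := by rw [map_one]; exact Iso.ext h1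
    exact inv_eq_one.1 (hρ h2)
  haveI : FaithfulSMul G Γ(X, p ⁻¹ᵁ V) := ⟨fun {g₁ g₂} h => by
    have := h0 (g₁⁻¹ * g₂) fun a => by rw [mul_smul, ← h, inv_smul_smul]
    exact inv_mul_eq_one.1 this⟩
  haveI : IsGaloisGroup G Γ(Y, V) Γ(X, p ⁻¹ᵁ V) := ⟨inferInstance, inferInstance, inferInstance⟩
  have hfin : Module.Finite Γ(Y, V) Γ(X, p ⁻¹ᵁ V) := IsFinite.finite_app p V hV
  have sq : IsPullback hW.fromSpec (Spec.map (p.app V)) p hV.fromSpec := by
    refine (IsOpenImmersion.isPullback _ _ _ _ ?_ ?_).flip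
    · rw [← IsAffineOpen.SpecMap_appLE_fromSpec p hV hW le_rfl, Scheme.Hom.app_eq_appLE]
    · rw [hV.opensRange_fromSpec, hW.opensRange_fromSpec]
  haveI : Module.Flat Γ(Y, V) Γ(X, p ⁻¹ᵁ V) :=
    (RingHom.flat_algebraMap_iff).1 (Flat.SpecMap_iff.1 (MorphismProperty.of_isPullback (P := @Flat) sq ‹Flat p›))
  have hz : hV.fromSpec (hV.primeIdealOf ⟨_, hy⟩) = genericPoint Y := hV.fromSpec_primeIdealOf ⟨_, hy⟩
  rw [← hz, ← Scheme.Hom.finrank_of_isPullback _ _ _ _ sq]
  refine (Scheme.Hom.finrank_SpecMap_algebraMap Γ(Y, V) Γ(X, p ⁻¹ᵁ V) _).trans ?_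
  rw [IsGaloisGroup.card_eq_finrank' G Γ(Y, V) Γ(X, p ⁻¹ᵁ V)]
  let P := hV.primeIdealOf ⟨_, hy⟩
  exact (rankAtStalk_eq_finrank Γ(Y, V) Γ(X, p ⁻¹ᵁ V) P)


end Groth.Agent.CurveQuot24
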