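import Groth.Agent.CurveQuot24.Basic
import Groth.Agent.AlgSpLib.DimBasic
import Groth.Agent.CubeLib.SmoothCurve
import Groth.Agent.FlatMorLocalStr.SmoothFibres
import Groth.Agent.AbVarLib.GeomIntegralSmooth
import Groth.Agent.VarCurve23.RegularCompletion
import Groth.Agent.DimLib.BaseChange
import Groth.Agent.S0220
import Groth.Agent.S4624
import Groth.Agent.S5137
import Mathlib.AlgebraicGeometry.Morphisms.LocalFlatDescent

/-!
# Quotients of smooth curves by finite groups
-/

set_option autoImplicit false
set_option linter.style.haveILetI false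
set_option linter.unusedSectionVars false
set_option backward.isDefEq.respectTransparency.types false
set_option maxHeartbeats 1000000

universe u

open CategoryTheory CategoryTheory.Limits AlgebraicGeometry Opposite TopologicalSpace
open Groth.Agent.Coherent

namespace Groth.Agent.CurveQuot24

variable {X Y : Scheme.{u}} {G : Type u} [Group G] [Finite G] {ρ : G →* Aut X} {π : X ⟶ Y}

/-- An automorphism over the base, pulled back. -/
noncomputable def bcMap {S S' : Scheme.{u}} (p : X ⟶ S) (b : S' ⟶ S) (a : X ⟶ X) (ha : a ≫ p = p) :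
    pullback p b ⟶ pullback p b :=
  pullback.lift (pullback.fst p b ≫ a) (pullback.snd p b) (by rw [Category.assoc, ha, pullback.condition])

theorem bcMap_comp {S S' : Scheme.{u}} (p : X ⟶ S) (b : S' ⟶ S) (a a' : X ⟶ X) (ha : a ≫ p = p)
    (ha' : a' ≫ p = p) (h : (a ≫ a') ≫ p = p) :
    bcMap p b a ha ≫ bcMap p b a' ha' = bcMap p b (a ≫ a') h := by
  refine pullback.hom_ext ?_ ?_
  · rw [Category.assoc]
    erw [pullback.lift_fst, pullback.lift_fst]
    rw [← Category.assoc]
    erw [pullback.lift_fst]
    exact Category.assoc _ _ _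
  · rw [Category.assoc]
    erw [pullback.lift_snd, pullback.lift_snd, pullback.lift_snd]

theorem bcMap_id {S S' : Scheme.{u}} (p : X ⟶ S) (b : S' ⟶ S) (a : X ⟶ X) (ha : a ≫ p = p) (e : a = 𝟙 X) :
    bcMap p b a ha = 𝟙 _ := by
  subst e
  apply pullback.hom_ext <;> simp [bcMap]

theorem bcMap_congr {S S' : Scheme.{u}} (p : X ⟶ S) (b : S' ⟶ S) (a a' : X ⟶ X) (ha : a ≫ p = p)
    (ha' : a' ≫ p = p) (e : a = a') : bcMap p b a ha = bcMap p b a' ha' := by
  subst e
  rfl

/-- The action on a base change. -/
noncomputable def bcAct {S S' : Scheme.{u}} (ρ : G →* Aut X) (p : X ⟶ S) (hρ : ∀ g, (ρ g).hom ≫ p = p)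
    (b : S' ⟶ S) : G →* Aut (pullback p b) where
  toFun g :=
    { hom := bcMap p b (ρ g).hom (hρ g)
      inv := bcMap p b (ρ g⁻¹).hom (hρ g⁻¹)
      hom_inv_id := by
        rw [bcMap_comp p b _ _ _ _ (by rw [Category.assoc, hρ, hρ]), bcMap_id]
        rw [map_inv]; exact (ρ g).hom_inv_id
      inv_hom_id := by
        rw [bcMap_comp p b _ _ _ _ (by rw [Category.assoc, hρ, hρ]), bcMap_id]
        rw [map_inv]; exact (ρ g).inv_hom_id }
  map_one' := Iso.ext (bcMap_id p b (ρ 1).hom (hρ 1) (by rw [map_one]; rfl))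
  map_mul' g h := Iso.ext (Eq.trans (bcMap_congr p b (ρ (g * h)).hom ((ρ h).hom ≫ (ρ g).hom) (hρ (g * h))
    (by rw [Category.assoc, hρ, hρ]) (by rw [map_mul]; rfl)) (bcMap_comp p b _ _ (hρ h) (hρ g) _).symm)

/-- The quotient is proper. -/
theorem isProper {S : Scheme.{u}} [IsLocallyNoetherian S] (hp : SGA1.IsQuot ρ π) (q : Y ⟶ S) [IsProper (π ≫ q)] :
    IsProper q := by
  haveI := SGA1Quot.surjective hp
  haveI := SGA1Quot.isSeparated_of_comp hp q
  haveI := SGA1Quot.locallyOfFiniteType_of_comp' hp q
  haveI : UniversallyClosed q := UniversallyClosed.of_comp_surjective π q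
  exact {}

/-- Normal, proper, one-dimensional quotient; the map is finite flat. -/
theorem curve_quotient {k : Type u} [Field k] (hp : SGA1.IsQuot ρ π) (q : Y ⟶ Spec (CommRingCat.of k))
    [IsProper (π ≫ q)] [IsIntegral X] (hn : Pi1.IsNormalScheme X) (hX : topologicalKrullDim X = 1) :
    IsIntegral Y ∧ IsProper q ∧ Pi1.IsNormalScheme Y ∧ topologicalKrullDim Y = 1 ∧ IsFinite π ∧ Flat π := by
  haveI := isIntegral hp
  haveI := isProper hp q
  haveI := SGA1Quot.surjective hp
  haveI := SGA1Quot.isFinite_of_locallyOfFiniteType hp q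
  have hY : topologicalKrullDim Y = 1 :=
    le_antisymm ((AlgSpLib.topologicalKrullDim_ge_of_isIntegralHom π).trans hX.le)
      (hX.ge.trans (AlgSpLib.topologicalKrullDim_le_of_isIntegralHom π))
  have hNY := isNormal hp hn
  refine ⟨inferInstance, inferInstance, hNY, hY, inferInstance, ?_⟩
  refine Groth.Agent.S0220.result k X Y (π ≫ q) q hX hY hNY π rfl ?_
  rw [Set.range_eq_univ.2 π.surjective]
  by_contra hc
  rw [Set.not_nontrivial_iff] at hc
  haveI : Subsingleton Y := Set.subsingleton_univ_iff.1 hc
  haveI : JacobsonSpace Y := LocallyOfFiniteType.jacobsonSpace q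
  have h0 : topologicalKrullDim Y ≤ 0 := by
    rw [DimLib.topologicalKrullDim_eq_krullDim]
    exact (Order.krullDim_nonpos_iff_forall_isMax.2 fun a b _ => (Subsingleton.elim b a).le)
  rw [hY] at h0
  exact absurd h0 (by decide)

/-- The quotient of a smooth curve is smooth. -/
theorem smooth_quotient {k : Type u} [Field k] (hp : SGA1.IsQuot ρ π) (q : Y ⟶ Spec (CommRingCat.of k))
    [IsProper (π ≫ q)] [Smooth (π ≫ q)] [GeometricallyConnected (π ≫ q)] (hX : topologicalKrullDim X = 1)
    (hρ : ∀ g, (ρ g).hom ≫ π ≫ q = π ≫ q) : Smooth q := by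
  let K := AlgebraicClosure k
  let b : Spec (CommRingCat.of K) ⟶ Spec (CommRingCat.of k) := Spec.map (CommRingCat.ofHom (algebraMap k K))
  haveI : Flat b := by
    rw [Flat.SpecMap_iff, CommRingCat.hom_ofHom, RingHom.flat_algebraMap_iff]
    infer_instance
  haveI : Surjective b := ⟨fun z => ⟨default, @Subsingleton.elim _ (inferInstanceAs (Subsingleton (PrimeSpectrum k))) _ _⟩⟩
  let p := π ≫ q
  let π' : pullback p b ⟶ pullback q b :=
    pullback.lift (pullback.fst p b ≫ π) (pullback.snd p b) (by rw [Category.assoc]; exact pullback.condition)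
  have sqX : IsPullback (pullback.fst p b) π' π (pullback.fst q b) := by
    refine IsPullback.of_bot ?_ (pullback.lift_fst _ _ _).symm (IsPullback.of_hasPullback q b)
    rw [pullback.lift_snd]
    exact IsPullback.of_hasPullback p b
  have hp' : SGA1.IsQuot (bcAct ρ p hρ b) π' := by
    refine Groth.Agent.S5137.result ρ π hp q b (pullback.fst q b) (pullback.snd q b) (IsPullback.of_hasPullback q b)
      (pullback.fst p b) π' sqX _ (fun g => ?_) (fun g => ?_)
    · exact pullback.lift_fst (pullback.fst p b ≫ (ρ g).hom) (pullback.snd p b)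
        (by rw [Category.assoc]; erw [hρ g]; exact pullback.condition)
    · show bcMap p b (ρ g).hom (hρ g) ≫ π' = π'
      refine pullback.hom_ext ?_ ?_
      · rw [Category.assoc]
        erw [pullback.lift_fst]
        rw [← Category.assoc]
        erw [pullback.lift_fst]
        rw [Category.assoc, hp.inv g]
      · rw [Category.assoc]
        erw [pullback.lift_snd, pullback.lift_snd]
  have e' : π' ≫ pullback.snd q b = pullback.snd p b := pullback.lift_snd _ _ _
  haveI : GeometricallyIntegral p := AbVarLib.geometricallyIntegral_of_smooth p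
  haveI : IsIntegral (pullback p b) :=
    GeometricallyIntegral.geometrically_isIntegral (f := p) b (pullback.fst p b) (pullback.snd p b)
      (IsPullback.of_hasPullback p b)
  haveI : IsProper (π' ≫ pullback.snd q b) := by
    rw [e']; exact MorphismProperty.pullback_snd (P := @IsProper) _ _ inferInstance
  haveI : Smooth (pullback.snd p b) := MorphismProperty.pullback_snd (P := @Smooth) _ _ inferInstance
  obtain ⟨_, hpr, hN, hY, -, -⟩ := curve_quotient hp' (pullback.snd q b)
    (FlatMorLocalStr.isNormalScheme_of_smooth_field (pullback.snd p b))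
    ((DimLib.topologicalKrullDim_bc p K).trans hX)
  haveI := hpr
  haveI : Smooth (pullback.snd q b) := CubeLib.smooth_of_normal_curve _ hN fun x hx => by
    refine VarCurve23.ringKrullDim_stalk_eq_one hY.le (genericPoint_specializes x) fun e => ?_
    have hu : ({x} : Set ↑↥(pullback q b)) = Set.univ := by
      rw [← hx.closure_eq, ← e]; exact genericPoint_closure _
    haveI : Subsingleton ↑↥(pullback q b) := Set.subsingleton_univ_iff.1 (hu ▸ Set.subsingleton_singleton)
    have h0 : topologicalKrullDim ↑↥(pullback q b) ≤ 0 := by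
      rw [DimLib.topologicalKrullDim_eq_krullDim]
      exact (Order.krullDim_nonpos_iff_forall_isMax.2 fun a b _ => (Subsingleton.elim b a).le)
    rw [hY] at h0
    exact absurd h0 (by decide)
  exact MorphismProperty.of_pullback_snd_of_descendsAlong (P := @Smooth)
    (Q := @Surjective ⊓ @Flat ⊓ @QuasiCompact) (f := q) (g := b) ⟨⟨inferInstance, inferInstance⟩, inferInstance⟩ ‹_›

end Groth.Agent.CurveQuot24
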