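import Groth.Agent.SGA1Quot.Affine
import Groth.Agent.EGA43.Limit.Basic
import Mathlib.RingTheory.Finiteness.ModuleFinitePresentation
import Mathlib.RingTheory.Invariant.Basic

/-!
# Quotients by finite groups of invertible order

Flatness and finite presentation pass to rings of invariants and to quotient schemes.
-/

set_option autoImplicit false
set_option linter.style.haveILetI false
set_option linter.unusedSectionVars false
set_option backward.isDefEq.respectTransparency.types false
set_option maxHeartbeats 1000000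

universe u

open CategoryTheory CategoryTheory.Limits AlgebraicGeometry Opposite TopologicalSpace

namespace Groth.Agent.CurveQuot24

section Rings

variable (R B A G : Type u) [CommRing R] [CommRing B] [CommRing A] [Algebra R B] [Algebra R A] [Algebra B A]
  [IsScalarTower R B A] [FaithfulSMul B A] [Group G] [Finite G] [MulSemiringAction G A] [SMulCommClass G B A]
  [Algebra.IsInvariant B A G] (hG : IsUnit ((Nat.card G : ℕ) : R))

include hG in
/-- The averaging projection onto the invariants. -/
theorem exists_average : ∃ E : A →ₗ[B] B, ∀ b : B, E (algebraMap B A b) = b := by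
  classical
  letI := Fintype.ofFinite G
  obtain ⟨u, hu⟩ := hG.map (algebraMap R B) |>.exists_left_inv
  let r : A →ₗ[B] A :=
    { toFun := fun a => u • ∑ g : G, g • a
      map_add' := fun a a' => by simp only [smul_add, Finset.sum_add_distrib]
      map_smul' := fun b a => by
        simp only [RingHom.id_apply, smul_comm (_ : G) b a, ← Finset.smul_sum, smul_comm u b] }
  have hfix : ∀ a, r a ∈ LinearMap.range (Algebra.linearMap B A) := fun a => by
    obtain ⟨b, hb⟩ := Algebra.IsInvariant.isInvariant (A := B) (G := G) (r a) fun h => by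
      show h • (u • ∑ g : G, g • a) = u • ∑ g : G, g • a
      rw [smul_comm h u, Finset.smul_sum (r := h)]
      congr 1
      simp only [smul_smul]
      exact Fintype.sum_equiv (Equiv.mulLeft h) _ _ fun g => rfl
    exact ⟨b, hb⟩
  let e := LinearEquiv.ofInjective (Algebra.linearMap B A) (FaithfulSMul.algebraMap_injective B A)
  refine ⟨e.symm.toLinearMap.comp (r.codRestrict _ hfix), fun b => ?_⟩
  apply e.injective
  rw [LinearMap.comp_apply, LinearEquiv.coe_coe, e.apply_symm_apply]
  apply Subtype.ext
  show u • ∑ g : G, g • algebraMap B A b = algebraMap B A b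
  simp only [smul_algebraMap, Finset.sum_const, Finset.card_univ, ← Nat.card_eq_fintype_card]
  rw [Algebra.smul_def, nsmul_eq_mul, ← map_natCast (algebraMap B A), ← map_mul, ← map_mul, ← mul_assoc,
    ← map_natCast (algebraMap R B), hu, one_mul]

include G hG in
theorem flat_invariants [Module.Flat R A] : Module.Flat R B := by
  obtain ⟨E, hE⟩ := exists_average R B A G hG
  exact Module.Flat.of_retract ((Algebra.linearMap B A).restrictScalars R) (E.restrictScalars R)
    (LinearMap.ext fun b => hE b)

include G hG in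
theorem finiteType_invariants [Algebra.FiniteType R A] : Algebra.FiniteType R B := by
  classical
  obtain ⟨E, hE⟩ := exists_average R B A G hG
  obtain ⟨s, hs⟩ := (Algebra.FiniteType.out : (⊤ : Subalgebra R A).FG)
  haveI : Algebra.IsIntegral B A := Algebra.IsInvariant.isIntegral B A G
  have hint : ∀ a : A, IsIntegral B a := fun a => Algebra.IsIntegral.isIntegral a
  let t : Finset B := s.biUnion fun a => (hint a).choose.coeffs
  let C : Subalgebra R B := Algebra.adjoin R (t : Set B)
  haveI : IsScalarTower R C A := IsScalarTower.subalgebra' R B A C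
  have hC : ∀ a ∈ s, IsIntegral C a := fun a ha => by
    obtain ⟨hm, hp⟩ := (hint a).choose_spec
    have hlift : (hint a).choose ∈ Polynomial.lifts (algebraMap C B) := by
      rw [Polynomial.lifts_iff_coeff_lifts]
      intro n
      by_cases h0 : (hint a).choose.coeff n = 0
      · exact ⟨0, by rw [map_zero, h0]⟩
      · exact ⟨⟨_, Algebra.subset_adjoin (Finset.mem_coe.2 (Finset.mem_biUnion.2
          ⟨a, ha, Polynomial.coeff_mem_coeffs h0⟩))⟩, rfl⟩
    obtain ⟨P, hP, -, hPm⟩ := Polynomial.lifts_and_natDegree_eq_and_monic hlift hm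
    refine ⟨P, hPm, ?_⟩
    rw [IsScalarTower.algebraMap_eq C B A, ← Polynomial.eval₂_map, hP]
    exact hp
  have htop : Algebra.adjoin C (s : Set A) = ⊤ := by
    refine top_le_iff.1 fun a hmem => ?_
    have ha : a ∈ Algebra.adjoin R (s : Set A) := hs ▸ Algebra.mem_top
    clear hmem
    induction ha using Algebra.adjoin_induction with
    | mem x hx => exact Algebra.subset_adjoin hx
    | algebraMap r => exact IsScalarTower.algebraMap_apply R C A r ▸ Subalgebra.algebraMap_mem _ _
    | add _ _ _ _ hx hy => exact add_mem hx hy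
    | mul _ _ _ _ hx hy => exact mul_mem hx hy
  haveI : Module.Finite C A := ⟨by
    have h := fg_adjoin_of_finite (s : Set A).toFinite hC
    rwa [htop, Algebra.top_toSubmodule] at h⟩
  haveI : Module.Finite C B := Module.Finite.of_surjective (E.restrictScalars C) fun b => ⟨_, hE b⟩
  haveI : Algebra.FiniteType R C := (Subalgebra.fg_iff_finiteType _).1 ⟨t, rfl⟩
  exact Algebra.FiniteType.trans (S := C) inferInstance inferInstance

include G hG in
theorem finitePresentation_invariants [Algebra.FinitePresentation R A] :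
    Algebra.FinitePresentation R B ∧ Algebra.FinitePresentation B A := by
  haveI := finiteType_invariants R B A G hG
  refine ⟨?_, Algebra.FinitePresentation.of_restrict_scalars_finitePresentation R B A⟩
  obtain ⟨n, φ, hφ⟩ := Algebra.FiniteType.iff_quotient_mvPolynomial''.1 (inferInstance : Algebra.FiniteType R B)
  let P := MvPolynomial (Fin n) R
  letI : Algebra P B := φ.toRingHom.toAlgebra
  letI : Algebra P A := ((algebraMap B A).comp φ.toRingHom).toAlgebra
  haveI : IsScalarTower P B A := IsScalarTower.of_algebraMap_eq' rfl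
  haveI : IsScalarTower R P B := IsScalarTower.of_algebraMap_eq' φ.comp_algebraMap.symm
  haveI : IsScalarTower R P A := IsScalarTower.of_algebraMap_eq fun r => by
    rw [IsScalarTower.algebraMap_apply R B A]
    exact congrArg (algebraMap B A) (φ.commutes r).symm
  haveI : Algebra.FiniteType B A := Algebra.FiniteType.of_restrictScalars_finiteType R B A
  haveI : Algebra.IsIntegral B A := Algebra.IsInvariant.isIntegral B A G
  haveI : Module.Finite B A := Algebra.IsIntegral.finite
  haveI : Module.Finite P B := Module.Finite.of_surjective (Algebra.linearMap P B) hφ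
  haveI : Module.Finite P A := Module.Finite.trans B A
  haveI : Algebra.FinitePresentation P A := Algebra.FinitePresentation.of_restrict_scalars_finitePresentation R P A
  haveI : Module.FinitePresentation P A := Module.FinitePresentation.of_finite_of_finitePresentation P A
  obtain ⟨E, hE⟩ := exists_average R B A G hG
  haveI : Module.FinitePresentation P B := by
    refine Module.finitePresentation_of_surjective (E.restrictScalars P) (fun b => ⟨_, hE b⟩) ?_
    let ι := (Algebra.linearMap B A).restrictScalars P
    have : LinearMap.ker (E.restrictScalars P) = LinearMap.range (LinearMap.id - ι.comp (E.restrictScalars P)) := by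
      ext a
      refine ⟨fun ha => ⟨a, ?_⟩, ?_⟩
      · rw [LinearMap.sub_apply, LinearMap.comp_apply, show E.restrictScalars P a = 0 from ha]
        simp
      · rintro ⟨a', rfl⟩
        show E (a' - algebraMap B A (E a')) = 0
        rw [map_sub, hE, sub_self]
    rw [this, LinearMap.range_eq_map]
    exact Module.Finite.fg_top.map _
  exact Algebra.FinitePresentation.trans R P B

end Rings

variable {X Y S : Scheme.{u}} {G : Type u} [Group G] [Finite G] {ρ : G →* Aut X} {p : X ⟶ Y}

/-- Reduction to rings. -/
theorem appLE_props (hp : SGA1.IsQuot ρ p) (q : Y ⟶ S) (hG : IsUnit ((Nat.card G : ℕ) : Γ(S, ⊤))) {V : S.Opens}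
    (hV : IsAffineOpen V) {U : Y.Opens} (hU : IsAffineOpen U) (e : U ≤ q ⁻¹ᵁ V) :
    (Flat (p ≫ q) → (q.appLE V U e).hom.Flat) ∧
    (LocallyOfFinitePresentation (p ≫ q) → (q.appLE V U e).hom.FinitePresentation ∧ (p.app U).hom.FinitePresentation) := by
  haveI := hp.affine
  letI := (q.appLE V U e).hom.toAlgebra
  letI := (p.app U).hom.toAlgebra
  letI := ((q.appLE V U e) ≫ p.app U).hom.toAlgebra
  haveI : IsScalarTower Γ(S, V) Γ(Y, U) Γ(X, p ⁻¹ᵁ U) := IsScalarTower.of_algebraMap_eq' rfl
  haveI : FaithfulSMul Γ(Y, U) Γ(X, p ⁻¹ᵁ U) :=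
    (faithfulSMul_iff_algebraMap_injective _ _).2 (hp.injective U)
  letI := SGA1Quot.action hp U
  haveI := SGA1Quot.action_invariant hp U
  haveI := SGA1Quot.action_comm hp U
  have hG' : IsUnit ((Nat.card G : ℕ) : Γ(S, V)) := by
    have h := hG.map (S.presheaf.map (homOfLE (le_top : V ≤ ⊤)).op).hom
    rwa [map_natCast] at h
  have e' : p ⁻¹ᵁ U ≤ (p ≫ q) ⁻¹ᵁ V := p.preimage_mono e
  have h2 : (p ≫ q).appLE V (p ⁻¹ᵁ U) e' = q.appLE V U e ≫ p.app U := by
    rw [Scheme.Hom.app_eq_appLE, Scheme.Hom.appLE_comp_appLE]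
  refine ⟨fun h => ?_, fun h => ?_⟩
  · haveI : Module.Flat Γ(S, V) Γ(X, p ⁻¹ᵁ U) := by
      have h3 := (p ≫ q).flat_appLE hV (hU.preimage p) e'
      rw [h2] at h3
      exact h3
    exact flat_invariants Γ(S, V) Γ(Y, U) Γ(X, p ⁻¹ᵁ U) G hG'
  · haveI : Algebra.FinitePresentation Γ(S, V) Γ(X, p ⁻¹ᵁ U) := by
      have h3 := (p ≫ q).finitePresentation_appLE hV (hU.preimage p) e'
      rw [h2] at h3
      exact h3
    exact finitePresentation_invariants Γ(S, V) Γ(Y, U) Γ(X, p ⁻¹ᵁ U) G hG'

theorem flat_quotient (hp : SGA1.IsQuot ρ p) (q : Y ⟶ S) (hG : IsUnit ((Nat.card G : ℕ) : Γ(S, ⊤)))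
    [Flat (p ≫ q)] : Flat q :=
  ⟨fun {_} hV {_} hU e => (appLE_props hp q hG hV hU e).1 inferInstance⟩

theorem lfp_quotient (hp : SGA1.IsQuot ρ p) (q : Y ⟶ S) (hG : IsUnit ((Nat.card G : ℕ) : Γ(S, ⊤)))
    [LocallyOfFinitePresentation (p ≫ q)] : LocallyOfFinitePresentation q ∧ LocallyOfFinitePresentation p := by
  have hq : LocallyOfFinitePresentation q :=
    ⟨fun {_} hV {_} hU e => ((appLE_props hp q hG hV hU e).2 inferInstance).1⟩
  haveI : LocallyOfFiniteType q := inferInstance
  exact ⟨hq, EGA43.Limit.locallyOfFinitePresentation_of_comp p q⟩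

/-- The quotient map is open. -/
theorem isOpenMap (hp : SGA1.IsQuot ρ p) : IsOpenMap p := fun O hO => by
  rw [← (SGA1Quot.isQuotientMap hp).isOpen_preimage]
  have e : p ⁻¹' (p '' O) = ⋃ g : G, (ρ g).hom ⁻¹' O := by
    ext x
    simp only [Set.mem_preimage, Set.mem_image, Set.mem_iUnion]
    refine ⟨fun ⟨x', hx', he⟩ => ?_, fun ⟨g, hg⟩ => ⟨_, hg, ?_⟩⟩
    · obtain ⟨g, hg⟩ := SGA1Quot.exists_smul_eq hp he.symm
      exact ⟨g, hg ▸ hx'⟩
    · rw [← Scheme.Hom.comp_apply, hp.inv g]
  rw [e]
  exact isOpen_iUnion fun g => hO.preimage (ρ g).hom.continuous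

end Groth.Agent.CurveQuot24
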