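import Groth.Agent.CurveQuot24.Curve
import Groth.Agent.CurveQuot24.Tame
import Groth.Agent.SGA1Quot.FlatBaseChange

/-!
# Quotients by groups of invertible order commute with base change
-/

set_option autoImplicit false
set_option linter.style.haveILetI false
set_option backward.isDefEq.respectTransparency.types false
set_option maxHeartbeats 1000000

universe u

open CategoryTheory CategoryTheory.Limits AlgebraicGeometry TopologicalSpace Opposite TensorProduct

namespace Groth.Agent.CurveQuot24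

attribute [local instance] Algebra.TensorProduct.rightAlgebra

theorem invariants_of_isPushout_tame {G : Type u} [Group G] [Finite G] {R B S B' : CommRingCat.{u}} {ι : R ⟶ B}
    {j : R ⟶ S} {t : B ⟶ B'} {s : S ⟶ B'} (h : IsPushout ι j t s) (hι : Function.Injective ι.hom)
    (hn : IsUnit ((Nat.card G : ℕ) : R)) (σ : G → (B ⟶ B)) (hσ : ∀ g, ι ≫ σ g = ι)
    (hmul : ∀ g h, σ g ≫ σ h = σ (g * h)) (hfix : ∀ b, (∀ g, σ g b = b) → ∃ r, ι r = b)
    (σ' : G → (B' ⟶ B')) (ht : ∀ g, t ≫ σ' g = σ g ≫ t) (hs : ∀ g, s ≫ σ' g = s) :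
    Function.Injective s.hom ∧ ∀ b', (∀ g, σ' g b' = b') → ∃ a, s a = b' := by
  classical
  cases nonempty_fintype G
  letI := ι.hom.toAlgebra
  letI := j.hom.toAlgebra
  letI := t.hom.toAlgebra
  letI := s.hom.toAlgebra
  letI : Algebra R B' := (j ≫ s).hom.toAlgebra
  haveI : IsScalarTower R S B' := IsScalarTower.of_algebraMap_eq fun x => rfl
  haveI : IsScalarTower R B B' := IsScalarTower.of_algebraMap_eq fun x => by
    show (j ≫ s) x = (ι ≫ t) x
    rw [h.w]
  haveI : Algebra.IsPushout R S B B' := CommRingCat.isPushout_iff_isPushout.mp h.flip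
  let e := Algebra.IsPushout.equiv R S B B'
  obtain ⟨u, hu⟩ := hn.exists_left_inv
  let r : B →ₗ[R] B :=
    { toFun := fun b => ι u * ∑ g : G, σ g b
      map_add' := fun b b' => by simp only [map_add, Finset.sum_add_distrib, mul_add]
      map_smul' := fun a b => by
        show ι u * ∑ g : G, σ g (ι a * b) = ι a * (ι u * ∑ g : G, σ g b)
        simp only [map_mul, show ∀ g, σ g (ι a) = ι a from fun g => congrArg (fun φ : R ⟶ B => φ a) (hσ g),
          ← Finset.mul_sum]
        ring }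
  have hfr : ∀ b, r b ∈ LinearMap.range (Algebra.linearMap R B) := fun b => by
    obtain ⟨a, ha⟩ := hfix (r b) fun g => by
      show σ g (ι u * ∑ h : G, σ h b) = ι u * ∑ h : G, σ h b
      rw [map_mul, map_sum, show σ g (ι u) = ι u from congrArg (fun φ : R ⟶ B => φ u) (hσ g)]
      congr 1
      refine Fintype.sum_equiv (Equiv.mulRight g) _ _ fun h => ?_
      exact congrArg (fun φ : B ⟶ B => φ b) (hmul h g)
    exact ⟨a, ha⟩
  let eB := LinearEquiv.ofInjective (Algebra.linearMap R B) hι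
  let E : B →ₗ[R] R := eB.symm.toLinearMap.comp (r.codRestrict _ hfr)
  have hιE : ∀ b, ι (E b) = r b := fun b => congrArg Subtype.val (eB.apply_symm_apply ⟨r b, hfr b⟩)
  have hE : ∀ a, E (ι a) = a := fun a => hι ((hιE _).trans (by
    show ι u * ∑ g : G, σ g (ι a) = ι a
    simp only [show ∀ g, σ g (ι a) = ι a from fun g => congrArg (fun φ : R ⟶ B => φ a) (hσ g),
      Finset.sum_const, Finset.card_univ, ← Nat.card_eq_fintype_card]
    rw [nsmul_eq_mul, ← map_natCast ι.hom, ← mul_assoc, ← map_mul, hu, map_one, one_mul]))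
  have hei : ∀ a : S, e (a ⊗ₜ (1 : B)) = s a := fun a => by
    rw [show e (a ⊗ₜ (1 : B)) = _ from Algebra.IsPushout.equiv_tmul (R := R) (S := S) (R' := B) (S' := B') a 1,
      map_one, mul_one]
    rfl
  constructor
  · intro a a' haa
    have h1 : a ⊗ₜ[R] (1 : B) = a' ⊗ₜ[R] (1 : B) := e.injective (by rw [hei, hei]; exact haa)
    have h2 := congrArg (fun x => TensorProduct.rid R S (E.lTensor S x)) h1
    have hE1 : E (1 : B) = 1 := by
      have := hE 1
      rwa [map_one] at this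
    simpa [hE1] using h2
  · intro b' hb'
    obtain ⟨x, rfl⟩ := e.surjective b'
    refine ⟨TensorProduct.rid R S (E.lTensor S x), ?_⟩
    have key : ∀ x : S ⊗[R] B,
        s (TensorProduct.rid R S (E.lTensor S x)) = t (ι u) * ∑ g : G, σ' g (e x) := fun x => by
      induction x with
      | zero => simp
      | add v w hv hw => simp only [map_add, hv, hw, Finset.sum_add_distrib, mul_add]
      | tmul a b =>
        rw [LinearMap.lTensor_tmul, TensorProduct.rid_tmul, Algebra.IsPushout.equiv_tmul]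
        show s (j (E b) * a) = t (ι u) * ∑ g : G, σ' g (s a * t b)
        simp only [map_mul, show ∀ g, σ' g (s a) = s a from fun g => congrArg (fun φ : S ⟶ B' => φ a) (hs g),
          show ∀ g, σ' g (t b) = t (σ g b) from fun g => congrArg (fun φ : B ⟶ B' => φ b) (ht g),
          ← Finset.mul_sum]
        rw [show s (j (E b)) = t (ι (E b)) from (congrArg (fun φ : R ⟶ B' => φ (E b)) h.w).symm, hιE]
        show t (ι u * ∑ g : G, σ g b) * s a = t (ι u) * (s a * ∑ g : G, t (σ g b))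
        rw [map_mul, map_sum]
        ring
    rw [key, Finset.sum_congr rfl fun g _ => hb' g, Finset.sum_const, Finset.card_univ, ← Nat.card_eq_fintype_card,
      nsmul_eq_mul, ← map_natCast t.hom, ← map_natCast ι.hom, ← mul_assoc, ← map_mul, ← map_mul, hu, map_one,
      map_one, one_mul]

theorem isQuot_baseChange_tame {X Y X' Y' : Scheme.{u}} {G : Type u} [Group G] [Finite G] (ρ : G →* Aut X)
    (p : X ⟶ Y) (hp : SGA1.IsQuot ρ p) (hn : IsUnit ((Nat.card G : ℕ) : Γ(Y, ⊤))) (qY : Y' ⟶ Y)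
    (pX : X' ⟶ X) (p' : X' ⟶ Y') (hX : IsPullback pX p' p qY)
    (ρ' : G →* Aut X') (hρ₁ : ∀ g : G, (ρ' g).hom ≫ pX = pX ≫ (ρ g).hom) (hρ₂ : ∀ g : G, (ρ' g).hom ≫ p' = p') :
    SGA1.IsQuot ρ' p' := by
  haveI := hp.affine
  haveI : IsAffineHom p' := MorphismProperty.of_isPullback (P := @IsAffineHom) hX hp.affine
  let I := {VW : Y.Opens × Y'.Opens // IsAffineOpen VW.1 ∧ IsAffineOpen VW.2 ∧ VW.2 ≤ qY ⁻¹ᵁ VW.1}
  have hle : ∀ i : I, p' ⁻¹ᵁ i.1.2 ≤ pX ⁻¹ᵁ (p ⁻¹ᵁ i.1.1) := fun i => by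
    rw [← Scheme.Hom.comp_preimage, hX.w, Scheme.Hom.comp_preimage]
    exact p'.preimage_mono i.2.2.2
  have hpo : ∀ i : I, IsPushout (p.app i.1.1) (qY.appLE i.1.1 i.1.2 i.2.2.2)
      (pX.appLE (p ⁻¹ᵁ i.1.1) (p' ⁻¹ᵁ i.1.2) (hle i)) (p'.app i.1.2) := fun i => by
    have := (isIso_pushoutSection_iff hX i.2.2.2 (le_refl (p ⁻¹ᵁ i.1.1)) (inf_eq_right.mpr (hle i)).symm).mp
      (isIso_pushoutSection_of_isAffineOpen hX i.2.2.2 (le_refl (p ⁻¹ᵁ i.1.1)) _ i.2.1 i.2.2.1 (i.2.1.preimage p))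
    simpa only [Scheme.Hom.app_eq_appLE] using this
  have main : ∀ i : I, Function.Injective (p'.app i.1.2).hom ∧
      ∀ b', (∀ g : G, (ρ' g).hom.appLE _ _ (SGA1.preimage_le_of_inv ρ' p' hρ₂ g i.1.2) b' = b') →
        ∃ a, p'.app i.1.2 a = b' := fun i => by
    have hn' : IsUnit ((Nat.card G : ℕ) : Γ(Y, i.1.1)) := by
      have h := hn.map (Y.presheaf.map (homOfLE (le_top : i.1.1 ≤ ⊤)).op).hom
      rwa [map_natCast] at h
    refine invariants_of_isPushout_tame (hpo i) (hp.injective _) hn'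
      (fun g => (ρ g).hom.appLE _ _ (SGA1.preimage_le_of_inv ρ p hp.inv g i.1.1)) (fun g => ?_) (fun g h => ?_)
      (fun b hb => (hp.range_iff _ b).mpr hb)
      (fun g => (ρ' g).hom.appLE _ _ (SGA1.preimage_le_of_inv ρ' p' hρ₂ g i.1.2)) (fun g => ?_) (fun g => ?_)
    · rw [Scheme.Hom.app_eq_appLE, Scheme.Hom.appLE_comp_appLE]
      exact SGA1Quot.appLE_congr _ _ _ _ (hp.inv g)
    · rw [Scheme.Hom.appLE_comp_appLE]
      exact SGA1Quot.appLE_congr _ _ _ _ (by rw [map_mul]; rfl)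
    · rw [Scheme.Hom.appLE_comp_appLE, Scheme.Hom.appLE_comp_appLE]
      exact SGA1Quot.appLE_congr _ _ _ _ (hρ₁ g)
    · rw [Scheme.Hom.app_eq_appLE, Scheme.Hom.appLE_comp_appLE]
      exact SGA1Quot.appLE_congr _ _ _ _ (hρ₂ g)
  refine SGA1Quot.isQuot_of_cover ρ' p' hρ₂ (fun i : I => i.1.2) (fun i => i.2.2.1) (fun y => ?_)
    (fun i => (main i).1) (fun i s hs => ?_)
  · obtain ⟨V, hV, hyV, -⟩ := exists_isAffineOpen_mem_and_subset (x := qY y) (U := (⊤ : Y.Opens)) trivial
    obtain ⟨W, hW, hyW, hWV⟩ := exists_isAffineOpen_mem_and_subset (x := y) (U := qY ⁻¹ᵁ V) hyV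
    exact ⟨⟨(V, W), hV, hW, hWV⟩, hyW⟩
  · refine (main i).2 s fun g => ?_
    have := hs g⁻¹
    simp only [FEtQuot.act, inv_inv] at this
    exact this

variable {X Y S S' : Scheme.{u}} {G : Type u} [Group G] [Finite G] {ρ : G →* Aut X} {π : X ⟶ Y}

/-- The map of base changes induced by `π`. -/
noncomputable def bcHom (π : X ⟶ Y) (q : Y ⟶ S) (b : S' ⟶ S) : pullback (π ≫ q) b ⟶ pullback q b :=
  pullback.lift (pullback.fst (π ≫ q) b ≫ π) (pullback.snd (π ≫ q) b)
    (by rw [Category.assoc]; exact pullback.condition)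

theorem bcHom_snd (π : X ⟶ Y) (q : Y ⟶ S) (b : S' ⟶ S) :
    bcHom π q b ≫ pullback.snd q b = pullback.snd (π ≫ q) b := pullback.lift_snd _ _ _

theorem bcHom_isPullback (π : X ⟶ Y) (q : Y ⟶ S) (b : S' ⟶ S) :
    IsPullback (pullback.fst (π ≫ q) b) (bcHom π q b) π (pullback.fst q b) := by
  refine IsPullback.of_bot ?_ (pullback.lift_fst _ _ _).symm (IsPullback.of_hasPullback q b)
  rw [bcHom_snd]
  exact IsPullback.of_hasPullback (π ≫ q) b

/-- Arbitrary base change of a tame quotient. -/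
theorem isQuot_bc (hp : SGA1.IsQuot ρ π) (q : Y ⟶ S) (b : S' ⟶ S) (hρ : ∀ g, (ρ g).hom ≫ π ≫ q = π ≫ q)
    (hn : IsUnit ((Nat.card G : ℕ) : Γ(S, ⊤))) : SGA1.IsQuot (bcAct ρ (π ≫ q) hρ b) (bcHom π q b) := by
  refine isQuot_baseChange_tame ρ π hp ?_ (pullback.fst q b) (pullback.fst (π ≫ q) b) (bcHom π q b)
    (bcHom_isPullback π q b) _ (fun g => ?_) (fun g => ?_)
  · have h := hn.map q.appTop.hom
    rwa [map_natCast] at h
  · exact pullback.lift_fst (pullback.fst (π ≫ q) b ≫ (ρ g).hom) (pullback.snd (π ≫ q) b)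
      (by rw [Category.assoc]; erw [hρ g]; exact pullback.condition)
  · show bcMap (π ≫ q) b (ρ g).hom (hρ g) ≫ bcHom π q b = bcHom π q b
    refine pullback.hom_ext ?_ ?_
    · rw [Category.assoc]
      erw [pullback.lift_fst]
      rw [← Category.assoc]
      erw [pullback.lift_fst]
      rw [Category.assoc, hp.inv g]
    · rw [Category.assoc]
      erw [pullback.lift_snd, pullback.lift_snd]

/-- Properties of the fibres of a tame quotient of a family of curves. -/
theorem fibre_props {k : Type u} [Field k] (hp : SGA1.IsQuot ρ π) (q : Y ⟶ S) (b : Spec (CommRingCat.of k) ⟶ S)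
    [IsProper (π ≫ q)] [Smooth (π ≫ q)] [GeometricallyConnected (π ≫ q)]
    (hρ : ∀ g, (ρ g).hom ≫ π ≫ q = π ≫ q) (hn : IsUnit ((Nat.card G : ℕ) : Γ(S, ⊤)))
    (hd : topologicalKrullDim ↥(pullback (π ≫ q) b) = 1)
    (hfaith : ∀ a : G, a ≠ 1 → ∃ x : X, x ∈ Set.range (pullback.fst (π ≫ q) b) ∧ (ρ a).hom x ≠ x) :
    Smooth (pullback.snd q b) ∧ topologicalKrullDim ↥(pullback q b) = 1 ∧
      Flat (bcHom π q b) ∧ ∀ y : ↥(pullback q b), (bcHom π q b).finrank y = Nat.card G := by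
  have hp' := isQuot_bc hp q b hρ hn
  have e' := bcHom_snd π q b
  haveI hsm : Smooth (pullback.snd (π ≫ q) b) := MorphismProperty.pullback_snd (P := @Smooth) _ _ inferInstance
  haveI hpr : IsProper (pullback.snd (π ≫ q) b) := MorphismProperty.pullback_snd (P := @IsProper) _ _ inferInstance
  haveI hgc : GeometricallyConnected (pullback.snd (π ≫ q) b) :=
    MorphismProperty.pullback_snd (P := @GeometricallyConnected) _ _ inferInstance
  haveI : GeometricallyIntegral (pullback.snd (π ≫ q) b) :=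
    AbVarLib.geometricallyIntegral_of_smooth (pullback.snd (π ≫ q) b)
  haveI : IsIntegral (pullback (π ≫ q) b) :=
    GeometricallyIntegral.geometrically_isIntegral (f := pullback.snd (π ≫ q) b)
      (𝟙 _) (𝟙 _) (pullback.snd (π ≫ q) b) (IsPullback.of_horiz_isIso ⟨by simp⟩)
  haveI : IsProper (bcHom π q b ≫ pullback.snd q b) := by rw [e']; exact hpr
  haveI : Smooth (bcHom π q b ≫ pullback.snd q b) := by rw [e']; exact hsm
  haveI : GeometricallyConnected (bcHom π q b ≫ pullback.snd q b) := by rw [e']; exact hgc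
  obtain ⟨_, hpY, -, hY, hfin, hfl⟩ := curve_quotient hp' (pullback.snd q b)
    (FlatMorLocalStr.isNormalScheme_of_smooth_field (pullback.snd (π ≫ q) b)) hd
  haveI := hfin
  haveI := hfl
  have hρ'' : ∀ a : G, (bcAct ρ (π ≫ q) hρ b a).hom ≫ pullback.snd (π ≫ q) b = pullback.snd (π ≫ q) b :=
    fun a => pullback.lift_snd _ _ _
  refine ⟨smooth_quotient hp' (pullback.snd q b) hd (fun a => by rw [e']; exact hρ'' a), hY, hfl, fun y => ?_⟩
  haveI := hpY
  haveI : IsLocallyNoetherian (pullback q b) := LocallyOfFiniteType.isLocallyNoetherian (pullback.snd q b)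
  refine finrank_eq_card hp' (pullback.snd (π ≫ q) b) ?_ hρ'' y
  rw [injective_iff_map_eq_one]
  intro a ha
  by_contra hne
  obtain ⟨x, hxr, hmove⟩ := hfaith a hne
  obtain ⟨z, rfl⟩ := hxr
  apply hmove
  have h1 : bcMap (π ≫ q) b (ρ a).hom (hρ a) = 𝟙 _ := congrArg Iso.hom ha
  have h2 : bcMap (π ≫ q) b (ρ a).hom (hρ a) ≫ pullback.fst (π ≫ q) b = pullback.fst (π ≫ q) b ≫ (ρ a).hom :=
    pullback.lift_fst _ _ _
  rw [h1, Category.id_comp] at h2
  rw [← Scheme.Hom.comp_apply, ← h2]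

end Groth.Agent.CurveQuot24
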